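import Mathlib

/-!
# Partial sums of the powers of an element of order seven (helper563, S2452, row `E₈(q)`)

`t` in a field with `1 + t + … + t^6 = 0`, `t ≠ 1`, `2 ≠ 0`: no proper nonempty partial sum of `1, t, …, t^6` is zero
(the norm of such a sum in the cyclotomic field is `1` or `8`).
-/

set_option autoImplicit false

namespace Cfsg.Agent.H563.TW

section field

variable {F : Type*} [Field F] {t : F}

theorem pow_seven (hs : ∑ k : Fin 7, t ^ (k : ℕ) = 0) : t ^ 7 = 1 := by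
  simp only [Fin.sum_univ_succ, Fin.sum_univ_zero] at hs
  norm_num [Fin.succ] at hs
  linear_combination (t - 1) * hs

theorem orderOf_seven (hs : ∑ k : Fin 7, t ^ (k : ℕ) = 0) (h1 : t ≠ 1) : orderOf t = 7 :=
  have : Fact (Nat.Prime 7) := ⟨by norm_num⟩
  orderOf_eq_prime (pow_seven hs) h1

theorem tau_add (h7 : t ^ 7 = 1) (a b : Fin 7) : t ^ ((a + b : Fin 7) : ℕ) = t ^ (a : ℕ) * t ^ (b : ℕ) := by
  rw [Fin.val_add, ← pow_add]
  conv_rhs => rw [← Nat.mod_add_div ((a : ℕ) + b) 7, pow_add, pow_mul, h7, one_pow, mul_one]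

theorem sum_tau (hs : ∑ k : Fin 7, t ^ (k : ℕ) = 0) (h1 : t ≠ 1) {k : Fin 7} (hk : k ≠ 0) :
    1 + t ^ (k : ℕ) + (t ^ (k : ℕ)) ^ 2 + (t ^ (k : ℕ)) ^ 3 + (t ^ (k : ℕ)) ^ 4 + (t ^ (k : ℕ)) ^ 5 + (t ^ (k : ℕ)) ^ 6 = 0 := by
  obtain ⟨x, hx⟩ : ∃ x, x = t ^ (k : ℕ) := ⟨_, rfl⟩
  have hx7 : x ^ 7 = 1 := by rw [hx, ← pow_mul, mul_comm, pow_mul, pow_seven hs, one_pow]
  have hx1 : x ≠ 1 := by
    rw [hx]
    refine pow_ne_one_of_lt_orderOf (fun h => hk (Fin.ext h)) ?_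
    rw [orderOf_seven hs h1]
    exact k.2
  rw [← hx]
  have h2 : (x - 1) * (1 + x + x ^ 2 + x ^ 3 + x ^ 4 + x ^ 5 + x ^ 6) = 0 := by linear_combination hx7
  exact (mul_eq_zero.1 h2).resolve_left (sub_ne_zero.2 hx1)

theorem two_ne' {x : F} (hx : 1 + x + x ^ 2 + x ^ 3 + x ^ 4 + x ^ 5 + x ^ 6 = 0) : 1 + x ≠ 0 := by
  intro h
  exact one_ne_zero (α := F) (by linear_combination (1 + x ^ 2 + x ^ 4 + x ^ 6) * h - x * hx)

theorem three_ne' {x : F} (hx : 1 + x + x ^ 2 + x ^ 3 + x ^ 4 + x ^ 5 + x ^ 6 = 0) : 1 + x + x ^ 2 ≠ 0 := by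
  intro h
  have h1 : x ^ 6 = 0 := by linear_combination hx - (1 + x ^ 3) * h
  have h2 : x = 0 := by simpa using h1
  rw [h2] at hx
  norm_num at hx

theorem fano_ne {x : F} (h2 : (2 : F) ≠ 0) (hx : 1 + x + x ^ 2 + x ^ 3 + x ^ 4 + x ^ 5 + x ^ 6 = 0) :
    1 + x + x ^ 3 ≠ 0 := by
  intro h
  exact h2 (by linear_combination (1 + x ^ 4 + x ^ 6) * h - (x ^ 3 - x ^ 2 + 2 * x - 1) * hx)

/-- three different elements of `ℤ/7` -/
theorem exists_line : ∀ a b c : Fin 7, a ≠ b → a ≠ c → b ≠ c → ∃ s k : Fin 7, k ≠ 0 ∧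
    ((s = a ∨ s = b ∨ s = c) ∧ (s + k = a ∨ s + k = b ∨ s + k = c) ∧
      ((s + k + k = a ∨ s + k + k = b ∨ s + k + k = c) ∨ (s + k + k + k = a ∨ s + k + k + k = b ∨ s + k + k + k = c))) := by
  decide +kernel

theorem ne_line : ∀ s k : Fin 7, k ≠ 0 → s + k + k ≠ s ∧ s + k + k ≠ s + k ∧ s + k + k + k ≠ s ∧
    s + k + k + k ≠ s + k := by decide +kernel

theorem two_sum (hs : ∑ k : Fin 7, t ^ (k : ℕ) = 0) (h1 : t ≠ 1) {a b : Fin 7} (hab : a ≠ b) :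
    t ^ (a : ℕ) + t ^ (b : ℕ) ≠ 0 := by
  have h7 := pow_seven hs
  have ht0 : t ≠ 0 := by
    rintro rfl
    norm_num at h7
  have hk : b - a ≠ 0 := sub_ne_zero.2 hab.symm
  have h3 := two_ne' (sum_tau hs h1 hk)
  have h4 : t ^ (b : ℕ) = t ^ (a : ℕ) * t ^ ((b - a : Fin 7) : ℕ) := by
    rw [← tau_add h7, add_sub_cancel]
  rw [h4]
  intro h5
  have h6 : t ^ (a : ℕ) * (1 + t ^ ((b - a : Fin 7) : ℕ)) = 0 := by linear_combination h5
  exact (mul_ne_zero (pow_ne_zero _ ht0) h3) h6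

theorem three_sum (hs : ∑ k : Fin 7, t ^ (k : ℕ) = 0) (h1 : t ≠ 1) (h2 : (2 : F) ≠ 0) {a b c : Fin 7} (hab : a ≠ b)
    (hac : a ≠ c) (hbc : b ≠ c) : t ^ (a : ℕ) + t ^ (b : ℕ) + t ^ (c : ℕ) ≠ 0 := by
  have h7 := pow_seven hs
  have ht0 : t ≠ 0 := by
    rintro rfl
    norm_num at h7
  obtain ⟨s, k, hk, hs1, hs2, hs3⟩ := exists_line a b c hab hac hbc
  obtain ⟨x, hx⟩ : ∃ x, x = t ^ (k : ℕ) := ⟨_, rfl⟩
  have hX := sum_tau hs h1 hk
  rw [← hx] at hX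
  have e1 : t ^ ((s + k : Fin 7) : ℕ) = t ^ (s : ℕ) * x := by rw [tau_add h7, hx]
  have e2 : t ^ ((s + k + k : Fin 7) : ℕ) = t ^ (s : ℕ) * x ^ 2 := by rw [tau_add h7, e1, ← hx]; ring
  have e3 : t ^ ((s + k + k + k : Fin 7) : ℕ) = t ^ (s : ℕ) * x ^ 3 := by rw [tau_add h7, e2, ← hx]; ring
  have n1 : s + k ≠ s := fun h => hk (by simpa using h)
  have key : ∀ d : Fin 7, d ≠ s → d ≠ s + k → (d = a ∨ d = b ∨ d = c) →
      t ^ (a : ℕ) + t ^ (b : ℕ) + t ^ (c : ℕ) = t ^ (s : ℕ) + t ^ ((s + k : Fin 7) : ℕ) + t ^ (d : ℕ) := by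
    intro d hd1 hd2 hd
    rcases hs1 with h | h | h <;> rcases hs2 with h' | h' | h' <;> rcases hd with h'' | h'' | h'' <;>
      first
        | exact absurd (h'.trans h.symm) n1
        | exact absurd (h''.trans h.symm) hd1
        | exact absurd (h''.trans h'.symm) hd2
        | (rw [h', h'', h] <;> ring)
  have hP := pow_ne_zero (s : ℕ) ht0
  rcases hs3 with h3 | h3
  · obtain ⟨n3, n2, -, -⟩ := ne_line s k hk
    rw [key _ n3 n2 h3, e1, e2]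
    intro h5
    have h6 : t ^ (s : ℕ) * (1 + x + x ^ 2) = 0 := by linear_combination h5
    exact (mul_ne_zero hP (three_ne' hX)) h6
  · obtain ⟨-, -, n3, n2⟩ := ne_line s k hk
    rw [key _ n3 n2 h3, e1, e3]
    intro h5
    have h6 : t ^ (s : ℕ) * (1 + x + x ^ 3) = 0 := by linear_combination h5
    exact (mul_ne_zero hP (fano_ne h2 hX)) h6

/-- **No proper partial sum is zero.** -/
theorem sum_ne (hs : ∑ k : Fin 7, t ^ (k : ℕ) = 0) (h1 : t ≠ 1) (h2 : (2 : F) ≠ 0) {I : Finset (Fin 7)}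
    (hI : I.Nonempty) (hI' : I ≠ Finset.univ) : ∑ k ∈ I, t ^ (k : ℕ) ≠ 0 := by
  have h7 := pow_seven hs
  have ht0 : t ≠ 0 := by
    rintro rfl
    norm_num at h7
  have small : ∀ J : Finset (Fin 7), J.Nonempty → J.card ≤ 3 → ∑ k ∈ J, t ^ (k : ℕ) ≠ 0 := by
    intro J hJ hc
    have h0 : 0 < J.card := hJ.card_pos
    have : J.card = 1 ∨ J.card = 2 ∨ J.card = 3 := by omega
    rcases this with h | h | h
    · obtain ⟨a, rfl⟩ := Finset.card_eq_one.1 h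
      rw [Finset.sum_singleton]
      exact pow_ne_zero _ ht0
    · obtain ⟨a, b, hab, rfl⟩ := Finset.card_eq_two.1 h
      rw [Finset.sum_pair hab]
      exact two_sum hs h1 hab
    · obtain ⟨a, b, c, hab, hac, hbc, rfl⟩ := Finset.card_eq_three.1 h
      rw [Finset.sum_insert (by simp [hab, hac]), Finset.sum_pair hbc, ← add_assoc]
      exact three_sum hs h1 h2 hab hac hbc
  by_cases hc : I.card ≤ 3
  · exact small I hI hc
  · have h3 : Iᶜ.card ≤ 3 := by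
      rw [Finset.card_compl, Fintype.card_fin]
      omega
    have h4 : Iᶜ.Nonempty := by
      rw [Finset.nonempty_iff_ne_empty]
      intro h
      exact hI' ((Finset.compl_eq_empty_iff _).1 h)
    have h5 := small _ h4 h3
    have h6 := Finset.sum_add_sum_compl I (fun k : Fin 7 => t ^ (k : ℕ))
    rw [hs] at h6
    intro h8
    rw [h8, zero_add] at h6
    exact h5 h6

end field

theorem z2 : ∀ t : ZMod 2, ∑ k : Fin 7, t ^ (k : ℕ) ≠ 0 := by decide +kernel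

/-- **The number fact.** -/
theorem num_fact {q r : ℕ} (hr : r.Prime) (hr7 : r ≠ 7) (hd : r ∣ ∑ a ∈ Finset.range 7, q ^ a) {I : Finset (Fin 7)}
    (hI : I.Nonempty) (hI' : I ≠ Finset.univ) : ∑ k ∈ I, (q : ZMod r) ^ (k : ℕ) ≠ 0 := by
  have : Fact r.Prime := ⟨hr⟩
  have hs : ∑ k : Fin 7, (q : ZMod r) ^ (k : ℕ) = 0 := by
    rw [Fin.sum_univ_eq_sum_range (fun a => (q : ZMod r) ^ a) 7]
    have h1 := (ZMod.natCast_eq_zero_iff _ _).2 hd
    rw [Nat.cast_sum] at h1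
    rw [← h1]
    exact Finset.sum_congr rfl fun a _ => (Nat.cast_pow q a).symm
  have h1 : (q : ZMod r) ≠ 1 := by
    intro h
    rw [h] at hs
    simp only [one_pow, Finset.sum_const, Finset.card_univ, Fintype.card_fin, nsmul_eq_mul, mul_one] at hs
    have h2 : ((7 : ℕ) : ZMod r) = 0 := hs
    rw [ZMod.natCast_eq_zero_iff] at h2
    exact hr7 ((Nat.prime_dvd_prime_iff_eq hr (by norm_num)).1 h2)
  have h2 : (2 : ZMod r) ≠ 0 := by
    intro h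
    have h3 : ((2 : ℕ) : ZMod r) = 0 := by exact_mod_cast h
    rw [ZMod.natCast_eq_zero_iff] at h3
    have h4 := (Nat.prime_dvd_prime_iff_eq hr Nat.prime_two).1 h3
    subst h4
    exact z2 _ hs
  exact sum_ne hs h1 h2 hI hI'

/-- the same for natural numbers -/
theorem num_fact_nat {q r : ℕ} (hr : r.Prime) (hr7 : r ≠ 7) (hd : r ∣ ∑ a ∈ Finset.range 7, q ^ a)
    {I : Finset (Fin 7)} (hI : I.Nonempty) (hI' : I ≠ Finset.univ) : ¬ r ∣ ∑ k ∈ I, q ^ (k : ℕ) := by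
  intro h
  apply num_fact hr hr7 hd hI hI'
  have h1 := (ZMod.natCast_eq_zero_iff _ _).2 h
  rw [Nat.cast_sum] at h1
  rw [← h1]
  exact Finset.sum_congr rfl fun a _ => (Nat.cast_pow q _).symm

end Cfsg.Agent.H563.TW
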